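/-
Torsion calculus in abelian categories with a class of small objects (ind-objects of cofinite type).
-/
import Mathlib.CategoryTheory.Abelian.Refinements
import Mathlib.CategoryTheory.Subobject.FactorThru
import Mathlib.CategoryTheory.Subobject.Limits
import Mathlib.CategoryTheory.Linear.Basic
import Mathlib.CategoryTheory.Preadditive.Biproducts
import Mathlib.CategoryTheory.ObjectProperty.EpiMono
import Mathlib.RingTheory.Int.Basic
import Mathlib.Data.Nat.Factorization.Induction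
import Mathlib.Data.Nat.Factorization.Basic

set_option autoImplicit false

open CategoryTheory CategoryTheory.Limits

namespace Groth.Agent.Lib.IndCof.Basic

universe v u

variable {V : Type u} [Category.{v} V] [Abelian V]

/-- The standing hypotheses on the class of small objects. -/
structure Small (E : ObjectProperty V) : Prop where
  iso : ∀ {X Y : V}, (X ≅ Y) → E X → E Y
  kernel : ∀ {X Y : V} (f : X ⟶ Y), E X → E Y → E (kernel f)
  cokernel : ∀ {X Y : V} (f : X ⟶ Y), E X → E Y → E (cokernel f)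
  biprod : ∀ {X Y : V}, E X → E Y → E (X ⊞ Y)
  separating : ∀ {A Z : V} (g : A ⟶ Z), (∀ (X : V) (h : X ⟶ A), E X → h ≫ g = 0) → g = 0
  torsion : ∀ X, E X → ∃ m : ℕ, 0 < m ∧ m • 𝟙 X = 0
  artinian : ∀ {A : V} (S : ℕ → Subobject A), Antitone S → (∀ i, E (S i : V)) →
    ∃ N, ∀ n, N ≤ n → S n = S N

/-- Cofinite type. -/
def Cof (E : ObjectProperty V) (A : V) : Prop := ∀ n : ℕ, 0 < n → E (kernel (n • 𝟙 A))

/-- The `n`-torsion. -/
noncomputable abbrev tor (A : V) (n : ℕ) : Subobject A := Subobject.mk (kernel.ι (n • 𝟙 A))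

section basic

variable {A B T : V}

lemma comp_nsmul_id (n : ℕ) (x : T ⟶ A) : x ≫ (n • 𝟙 A) = n • x := by
  rw [Preadditive.comp_nsmul, Category.comp_id]

lemma comp_zsmul_id (n : ℤ) (x : T ⟶ A) : x ≫ (n • 𝟙 A) = n • x := by
  rw [Preadditive.comp_zsmul, Category.comp_id]

lemma factors_local (S : Subobject A) {T' : V} (e : T' ⟶ T) [Epi e] {x : T ⟶ A}
    (h : S.Factors (e ≫ x)) : S.Factors x := by
  have h1 : x ≫ cokernel.π S.arrow = 0 := by
    rw [← cancel_epi e, comp_zero, ← Category.assoc,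
      ← Subobject.factorThru_arrow S (e ≫ x) h, Category.assoc, cokernel.condition, comp_zero]
  exact (Subobject.factors_iff _ _).2
    ⟨Abelian.monoLift S.arrow x h1, Abelian.monoLift_comp S.arrow x h1⟩

lemma mem_image_iff {P : V} (f : P ⟶ A) (z : T ⟶ A) :
    (imageSubobject f).Factors z ↔
      ∃ (T' : V) (e : T' ⟶ T) (_ : Epi e) (y : T' ⟶ P), e ≫ z = y ≫ f := by
  constructor
  · intro h
    obtain ⟨T', e, he, y, hy⟩ := surjective_up_to_refinements_of_epi (factorThruImageSubobject f)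
      ((imageSubobject f).factorThru z h)
    refine ⟨T', e, he, y, ?_⟩
    have := congrArg (· ≫ (imageSubobject f).arrow) hy
    simpa using this
  · rintro ⟨T', e, he, y, hy⟩
    refine factors_local _ e ?_
    rw [hy]
    exact (Subobject.factors_iff _ _).2 ⟨y ≫ factorThruImageSubobject f, by simp⟩

lemma le_of_mem {S S' : Subobject A} (h : ∀ ⦃T : V⦄ (z : T ⟶ A), S.Factors z → S'.Factors z) : S ≤ S' :=
  Subobject.le_of_factors (h _ S.factors_self)

lemma mem_mk_kernel {B : V} (f : A ⟶ B) (z : T ⟶ A) :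
    (Subobject.mk (kernel.ι f)).Factors z ↔ z ≫ f = 0 := by
  rw [Subobject.mk_factors_iff]
  constructor
  · rintro ⟨y, hy⟩
    rw [← hy, Category.assoc]
    exact (congrArg (y ≫ ·) (kernel.condition f)).trans comp_zero
  · exact fun h => ⟨kernel.lift f z h, kernel.lift_ι _ _ _⟩

lemma mem_tor (n : ℕ) (z : T ⟶ A) : (tor A n).Factors z ↔ n • z = 0 := by
  rw [mem_mk_kernel, comp_nsmul_id]

lemma nsmul_eq_zero_of_epi {T' : V} (e : T' ⟶ T) [Epi e] {n : ℕ} {x : T ⟶ A}
    (h : n • (e ≫ x) = 0) : n • x = 0 := by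
  rw [← cancel_epi e, Preadditive.comp_nsmul, h, comp_zero]

lemma mem_zsmul {S : Subobject A} {x : T ⟶ A} (h : S.Factors x) (k : ℤ) : S.Factors (k • x) := by
  have : k • x = (k • 𝟙 T) ≫ x := by rw [Preadditive.zsmul_comp, Category.id_comp]
  rw [this]
  exact Subobject.factors_of_factors_right _ h

lemma mem_nsmul {S : Subobject A} {x : T ⟶ A} (h : S.Factors x) (k : ℕ) : S.Factors (k • x) := by
  rw [← natCast_zsmul]; exact mem_zsmul h _

end basic

namespace Small

variable {E : ObjectProperty V} (hE : Small E)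
include hE

lemma image {X Y : V} (f : X ⟶ Y) (hX : E X) (hY : E Y) : E (Abelian.image f) :=
  hE.kernel (cokernel.π f) hY (hE.cokernel f hX hY)

lemma pullback {X Y Z : V} (f : X ⟶ Z) (g : Y ⟶ Z) (hX : E X) (hY : E Y) (hZ : E Z) :
    E (Limits.pullback f g) := by
  refine hE.iso ?_ (hE.kernel (biprod.desc f (-g)) (hE.biprod hX hY) hZ)
  exact
    { hom := pullback.lift (kernel.ι _ ≫ biprod.fst) (kernel.ι _ ≫ biprod.snd) (by
        have h0 : biprod.fst ≫ f - biprod.snd ≫ g = biprod.desc f (-g) := by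
          apply biprod.hom_ext' <;> simp
        rw [Category.assoc, Category.assoc, ← sub_eq_zero, ← Preadditive.comp_sub, h0,
          kernel.condition])
      inv := kernel.lift _ (biprod.lift (pullback.fst f g) (pullback.snd f g)) (by
        simp [pullback.condition])
      hom_inv_id := by
        apply (cancel_mono (kernel.ι _)).1
        apply biprod.hom_ext <;> simp [Limits.pullback.lift_fst, Limits.pullback.lift_snd]
      inv_hom_id := by
        apply Limits.pullback.hom_ext <;> simp [Limits.pullback.lift_fst, Limits.pullback.lift_snd] }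

lemma of_exact {R P Z : V} (f : R ⟶ P) (g : P ⟶ Z) (w : f ≫ g = 0)
    (hex : (ShortComplex.mk f g w).Exact) [Epi g] (hR : E R) (hP : E P) : E Z := by
  have : Epi (ShortComplex.mk f g w).g := inferInstanceAs (Epi g)
  exact hE.iso (IsColimit.coconePointUniqueUpToIso (cokernelIsCokernel f) hex.gIsCokernel)
    (hE.cokernel f hR hP)

lemma imageSub {P K A : V} (f : P ⟶ K) (k : K ⟶ A) [Mono k] (hP : E P) (hK : E K) :
    E (imageSubobject (f ≫ k) : V) := by
  have : StrongEpi (Limits.factorThruImage f) := strongEpi_of_epi _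
  exact hE.iso (Abelian.imageIsoImage f ≪≫
    image.isoStrongEpiMono (Limits.factorThruImage f) (Limits.image.ι f ≫ k) (by simp) ≪≫
    (imageSubobjectIso _).symm) (hE.image f hP hK)

end Small

/-- `A = nA + A[M]`. -/
def Gen (A : V) (n M : ℕ) : Prop := Epi (biprod.desc (n • 𝟙 A) (kernel.ι (M • 𝟙 A)))

lemma Gen.exists {A : V} {n M : ℕ} (h : Gen A n M) {T : V} (x : T ⟶ A) :
    ∃ (T' : V) (e : T' ⟶ T) (_ : Epi e) (a b : T' ⟶ A), M • b = 0 ∧ e ≫ x = n • a + b := by
  have : Epi (biprod.desc (n • 𝟙 A) (kernel.ι (M • 𝟙 A))) := h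
  obtain ⟨T', e, he, y, hy⟩ := surjective_up_to_refinements_of_epi
    (biprod.desc (n • 𝟙 A) (kernel.ι (M • 𝟙 A))) x
  refine ⟨T', e, he, y ≫ biprod.fst, y ≫ biprod.snd ≫ kernel.ι _, ?_, ?_⟩
  · rw [← comp_nsmul_id, Category.assoc, Category.assoc, kernel.condition, comp_zero, comp_zero]
  · rw [hy, biprod.desc_eq]
    simp [comp_nsmul_id]

lemma gen_of_mem {A : V} {n M : ℕ}
    (h : ∀ ⦃T : V⦄ (x : T ⟶ A), ∃ (T' : V) (e : T' ⟶ T) (_ : Epi e) (a b : T' ⟶ A),
      M • b = 0 ∧ e ≫ x = n • a + b) : Gen A n M := by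
  rw [Gen, epi_iff_surjective_up_to_refinements]
  intro T x
  obtain ⟨T', e, he, a, b, hb, hx⟩ := h x
  refine ⟨T', e, he, biprod.lift a (kernel.lift _ b (by rw [comp_nsmul_id, hb])), ?_⟩
  rw [biprod.lift_desc, kernel.lift_ι, comp_nsmul_id, hx]

variable {E : ObjectProperty V} (hE : Small E)
include hE

lemma gen_one {A : V} : Gen A 1 1 := gen_of_mem fun T x =>
  ⟨T, 𝟙 T, inferInstance, x, 0, by simp, by simp⟩

/-- The key step: for a prime `p`. -/
lemma exists_gen_prime {A : V} (hA : Cof E A) (p : ℕ) (hp : p.Prime) :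
    ∃ N : ℕ, Gen A p (p ^ N) := by
  have hpos : ∀ k, 0 < p ^ k := fun k => pow_pos hp.pos k
  let I : ℕ → Subobject A := fun k => imageSubobject (kernel.ι (p ^ (k + 1) • 𝟙 A) ≫ (p ^ k • 𝟙 A))
  have hmem : ∀ k {T : V} (z : T ⟶ A), (I k).Factors z ↔
      ∃ (T' : V) (e : T' ⟶ T) (_ : Epi e) (y : T' ⟶ A), p ^ (k + 1) • y = 0 ∧ e ≫ z = p ^ k • y := by
    intro k T z
    rw [mem_image_iff]
    constructor
    · rintro ⟨T', e, he, y, hy⟩
      exact ⟨T', e, he, y ≫ kernel.ι _, by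
        rw [← comp_nsmul_id, Category.assoc, kernel.condition, comp_zero],
        by rw [hy, ← Category.assoc, comp_nsmul_id]⟩
    · rintro ⟨T', e, he, y, hy0, hy⟩
      exact ⟨T', e, he, kernel.lift _ y (by rw [comp_nsmul_id, hy0]),
        by rw [hy, kernel.lift_ι_assoc, comp_nsmul_id]⟩
  have hEI : ∀ k, E (I k : V) := by
    intro k
    have hk : kernel.ι (p ^ (k + 1) • 𝟙 A) ≫ (p ^ k • 𝟙 A) ≫ (p • 𝟙 A) = 0 := by
      rw [comp_nsmul_id p (p ^ k • 𝟙 A), ← mul_nsmul', ← pow_succ', kernel.condition]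
    have h1 := hE.imageSub
      (kernel.lift (p • 𝟙 A) (kernel.ι (p ^ (k + 1) • 𝟙 A) ≫ (p ^ k • 𝟙 A))
        (by rw [Category.assoc]; exact hk))
      (kernel.ι (p • 𝟙 A)) (hA _ (hpos _)) (hA p hp.pos)
    rwa [kernel.lift_ι] at h1
  have hanti : Antitone I := antitone_nat_of_succ_le fun k => le_of_mem fun T z hz => by
    obtain ⟨T', e, he, y, hy0, hy⟩ := (hmem (k + 1) z).1 hz
    refine (hmem k z).2 ⟨T', e, he, p • y, ?_, ?_⟩
    · rw [← mul_nsmul', ← pow_succ]; exact hy0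
    · rw [hy, ← mul_nsmul', pow_succ]
  obtain ⟨N, hN⟩ := hE.artinian I hanti hEI
  refine ⟨N, ?_⟩
  let R := imageSubobject (biprod.desc (p • 𝟙 A) (kernel.ι (p ^ N • 𝟙 A)))
  have hp1 : ∀ {T : V} (a : T ⟶ A), R.Factors (p • a) := fun a =>
    (mem_image_iff _ _).2 ⟨_, 𝟙 _, inferInstance, a ≫ biprod.inl, by
      rw [Category.id_comp, Category.assoc, biprod.inl_desc, comp_nsmul_id]⟩
  have hp2 : ∀ {T : V} (b : T ⟶ A), p ^ N • b = 0 → R.Factors b := fun b hb =>
    (mem_image_iff _ _).2 ⟨_, 𝟙 _, inferInstance, kernel.lift _ b (by rw [comp_nsmul_id, hb]) ≫ biprod.inr, by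
      simp⟩
  have hk : ∀ (k : ℕ) {T : V} (x : T ⟶ A), p ^ k • x = 0 → R.Factors x := by
    intro k
    induction k with
    | zero => intro T x hx; exact hp2 x (by rw [pow_zero, one_nsmul] at hx; rw [hx, smul_zero])
    | succ k ih =>
      intro T x hx
      by_cases hkN : k + 1 ≤ N
      · refine hp2 x ?_
        obtain ⟨d, hd⟩ := pow_dvd_pow p hkN
        rw [hd, mul_nsmul, hx, smul_zero]
      · have h1 : (I k).Factors (p ^ k • x) := (hmem k _).2 ⟨T, 𝟙 T, inferInstance, x, hx, by simp⟩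
        rw [hN k (by omega), ← hN (k + 1) (by omega)] at h1
        obtain ⟨T', e, he, y, -, hy⟩ := (hmem (k + 1) _).1 h1
        rw [Preadditive.comp_nsmul, pow_succ, mul_nsmul', ← sub_eq_zero, ← nsmul_sub] at hy
        refine factors_local R e ?_
        rw [← sub_add_cancel (e ≫ x) (p • y)]
        exact Subobject.factors_add _ _ (ih _ hy) (hp1 y)
  have hall : ∀ (m : ℕ), 0 < m → ∀ {T : V} (x : T ⟶ A), m • x = 0 → R.Factors x := by
    intro m hm T x hx
    obtain ⟨k, m', hm', rfl⟩ := Nat.exists_eq_pow_mul_and_not_dvd hm.ne' p hp.ne_one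
    obtain ⟨s, t, hst⟩ : ∃ s t : ℤ, s * (p : ℤ) ^ (k + 1) + t * (m' : ℤ) = 1 := by
      have hco : IsCoprime ((p : ℤ) ^ (k + 1)) (m' : ℤ) :=
        ((Int.isCoprime_iff_nat_coprime).2 (by simpa using (hp.coprime_iff_not_dvd).2 hm')).pow_left
      obtain ⟨a, b, hab⟩ := hco
      exact ⟨a, b, hab⟩
    have hxeq : x = p • ((s * (p : ℤ) ^ k) • x) + (t * (m' : ℤ)) • x := by
      rw [← natCast_zsmul, smul_smul, ← add_zsmul]
      conv_lhs => rw [← one_zsmul x, ← hst]
      congr 1; ring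
    rw [hxeq]
    refine Subobject.factors_add _ _ (hp1 _) (hk k _ ?_)
    rw [← natCast_zsmul (G := T ⟶ A), smul_smul]
    rw [← natCast_zsmul (G := T ⟶ A)] at hx
    rw [show ((p ^ k : ℕ) : ℤ) * (t * (m' : ℤ)) = t * ((p ^ k * m' : ℕ) : ℤ) by push_cast; ring,
      mul_smul, hx, smul_zero]
  have hepi : cokernel.π R.arrow = 0 := hE.separating _ fun X h hX => by
    obtain ⟨m, hm, hm0⟩ := hE.torsion X hX
    have : R.Factors h := hall m hm h (by
      rw [← Category.id_comp h, ← Preadditive.nsmul_comp, hm0, zero_comp])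
    rw [← Subobject.factorThru_arrow R h this, Category.assoc, cokernel.condition, comp_zero]
  refine gen_of_mem fun T x => ?_
  haveI : Mono R.arrow := Subobject.arrow_mono R
  have hx : R.Factors x := (Subobject.factors_iff _ _).2
    ⟨Abelian.monoLift R.arrow x (by rw [hepi, comp_zero]), Abelian.monoLift_comp R.arrow _ _⟩
  obtain ⟨T', e, he, y, hy⟩ := (mem_image_iff _ _).1 hx
  refine ⟨T', e, he, y ≫ biprod.fst, y ≫ biprod.snd ≫ kernel.ι _, ?_, ?_⟩
  · rw [← comp_nsmul_id, Category.assoc, Category.assoc, kernel.condition, comp_zero, comp_zero]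
  · rw [hy, biprod.desc_eq]
    simp [comp_nsmul_id]

lemma exists_gen {A : V} (hA : Cof E A) (n : ℕ) (hn : 0 < n) : ∃ M : ℕ, 0 < M ∧ Gen A n M := by
  induction n using induction_on_primes with
  | zero => omega
  | one => exact ⟨1, one_pos, gen_one hE⟩
  | prime_mul p b hp ih =>
    obtain ⟨N, hg⟩ := exists_gen_prime hE hA p hp
    obtain ⟨L, hL, hgb⟩ := ih (Nat.pos_of_ne_zero (by rintro rfl; simp at hn))
    refine ⟨p ^ N * L, mul_pos (pow_pos hp.pos N) hL, gen_of_mem fun T x => ?_⟩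
    obtain ⟨T₁, e₁, he₁, a, b₁, hb₁, hx⟩ := hg.exists x
    obtain ⟨T₂, e₂, he₂, a', b₂, hb₂, ha⟩ := hgb.exists a
    refine ⟨T₂, e₂ ≫ e₁, inferInstance, a', p • b₂ + e₂ ≫ b₁, ?_, ?_⟩
    · rw [nsmul_add, smul_comm _ p, mul_nsmul', hb₂, smul_zero, smul_zero, zero_add,
        ← Preadditive.comp_nsmul, mul_nsmul, hb₁, smul_zero, comp_zero]
    · rw [Category.assoc, hx, Preadditive.comp_add, Preadditive.comp_nsmul, ha, nsmul_add,
        ← mul_nsmul', add_assoc]

theorem cokernel_mem {A : V} (hA : Cof E A) (n : ℕ) (hn : 0 < n) : E (cokernel (n • 𝟙 A)) := by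
  obtain ⟨M, hM, hg⟩ := exists_gen hE hA n hn
  let f : kernel ((n * M) • 𝟙 A) ⟶ kernel (M • 𝟙 A) :=
    kernel.lift _ (kernel.ι _ ≫ (n • 𝟙 A)) (by
      rw [Category.assoc, comp_nsmul_id M, ← mul_nsmul', Nat.mul_comm M n, kernel.condition])
  let g : kernel (M • 𝟙 A) ⟶ cokernel (n • 𝟙 A) := kernel.ι _ ≫ cokernel.π _
  have w : f ≫ g = 0 := by
    simp only [f, g, kernel.lift_ι_assoc, Category.assoc, cokernel.condition, comp_zero]
  have : Epi g := by
    rw [epi_iff_surjective_up_to_refinements]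
    intro T q
    obtain ⟨T₁, e₁, he₁, x, hx⟩ := surjective_up_to_refinements_of_epi (cokernel.π (n • 𝟙 A)) q
    obtain ⟨T₂, e₂, he₂, a, b, hb, hab⟩ := hg.exists x
    refine ⟨T₂, e₂ ≫ e₁, inferInstance, kernel.lift _ b (by rw [comp_nsmul_id, hb]), ?_⟩
    rw [Category.assoc, hx, reassoc_of% hab, ← comp_nsmul_id n a, Preadditive.add_comp, Category.assoc,
      cokernel.condition, comp_zero, zero_add]
    simp [g]
  refine hE.of_exact f g w ?_ (hA _ (mul_pos hn hM)) (hA M hM)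
  rw [ShortComplex.exact_iff_exact_up_to_refinements]
  intro T y hy
  obtain ⟨T', e, he, a, ha⟩ := (ShortComplex.exact_of_g_is_cokernel
    (ShortComplex.mk (n • 𝟙 A) (cokernel.π _) (cokernel.condition _))
    (cokernelIsCokernel _)).exact_up_to_refinements (y ≫ kernel.ι (M • 𝟙 A))
      (by rw [Category.assoc]; exact hy)
  have ha' : e ≫ y ≫ kernel.ι (M • 𝟙 A) = n • a := by rw [ha]; exact comp_nsmul_id n a
  refine ⟨T', e, he, kernel.lift _ a ?_, (cancel_mono (kernel.ι (M • 𝟙 A))).1 ?_⟩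
  · rw [comp_nsmul_id, mul_nsmul, ← ha', ← comp_nsmul_id M, Category.assoc, Category.assoc,
      kernel.condition, comp_zero, comp_zero]
  · change (e ≫ y) ≫ _ = (kernel.lift _ a _ ≫ f) ≫ _
    simp only [f, Category.assoc, kernel.lift_ι, kernel.lift_ι_assoc, ha', Preadditive.comp_nsmul, Category.comp_id]

theorem image_stable {A : V} (hA : Cof E A) (p : ℕ) (hp : p.Prime) :
    ∃ N : ℕ, ∀ n, N ≤ n → imageSubobject ((p ^ n) • 𝟙 A) = imageSubobject ((p ^ N) • 𝟙 A) := by
  obtain ⟨N, hg⟩ := exists_gen_prime hE hA p hp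
  refine ⟨N, fun n hn => le_antisymm (le_of_mem fun T z hz => ?_) ?_⟩
  · obtain ⟨T', e, he, y, hy⟩ := (mem_image_iff _ _).1 hz
    obtain ⟨d, hd⟩ := pow_dvd_pow p hn
    refine (mem_image_iff _ _).2 ⟨T', e, he, d • y, ?_⟩
    rw [hy, comp_nsmul_id, comp_nsmul_id, ← mul_nsmul', ← hd]
  · induction n, hn using Nat.le_induction with
    | base => exact le_rfl
    | succ n hn ih =>
      refine ih.trans (le_of_mem fun T z hz => ?_)
      obtain ⟨T₁, e₁, he₁, y, hy⟩ := (mem_image_iff _ _).1 hz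
      obtain ⟨T₂, e₂, he₂, a, b, hb, hab⟩ := hg.exists y
      refine (mem_image_iff _ _).2 ⟨T₂, e₂ ≫ e₁, inferInstance, a, ?_⟩
      obtain ⟨d, hd⟩ := pow_dvd_pow p hn
      rw [Category.assoc, hy, ← Category.assoc, hab, comp_nsmul_id, comp_nsmul_id, nsmul_add,
        ← mul_nsmul', ← pow_succ, hd, mul_nsmul, hb, smul_zero, add_zero]

theorem cof_kernel {A B : V} (f : A ⟶ B) (hA : Cof E A) (hB : Cof E B) : Cof E (kernel f) := by
  intro n hn
  let φ : kernel (n • 𝟙 A) ⟶ kernel (n • 𝟙 B) :=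
    kernel.map (n • 𝟙 A) (n • 𝟙 B) f f (by simp)
  have hl : (kernel.ι φ ≫ kernel.ι (n • 𝟙 A)) ≫ f = 0 := by
    have h := kernel.condition φ =≫ kernel.ι (n • 𝟙 B)
    simpa only [φ, zero_comp, Category.assoc, kernel.lift_ι] using h
  refine hE.iso ?_ (hE.kernel φ (hA n hn) (hB n hn))
  exact
    { hom := kernel.lift _ (kernel.lift f (kernel.ι φ ≫ kernel.ι _) hl) (by
          apply (cancel_mono (kernel.ι f)).1
          rw [zero_comp, Category.assoc, Preadditive.nsmul_comp, Category.id_comp, Preadditive.comp_nsmul,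
            kernel.lift_ι, ← comp_nsmul_id n (kernel.ι φ ≫ kernel.ι (n • 𝟙 A)), Category.assoc,
            kernel.condition, comp_zero])
      inv := kernel.lift φ (kernel.lift _ (kernel.ι (n • 𝟙 (kernel f)) ≫ kernel.ι f) (by
          have := kernel.condition (n • 𝟙 (kernel f)) =≫ kernel.ι f
          simpa [Category.assoc] using this)) (by
          apply (cancel_mono (kernel.ι (n • 𝟙 B))).1
          simp [φ])
      hom_inv_id := by
        apply (cancel_mono (kernel.ι φ)).1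
        apply (cancel_mono (kernel.ι (n • 𝟙 A))).1
        simp
      inv_hom_id := by
        apply (cancel_mono (kernel.ι (n • 𝟙 (kernel f)))).1
        apply (cancel_mono (kernel.ι f)).1
        simp }

theorem cof_of_epi {K A Q : V} (i : K ⟶ A) (q : A ⟶ Q) [Mono i] [Epi q] (w : i ≫ q = 0)
    (hex : (ShortComplex.mk i q w).Exact) (hK : Cof E K) (hA : Cof E A) : Cof E Q := by
  intro n hn
  obtain ⟨L, hL, hg⟩ := exists_gen hE hK n hn
  let mA : kernel ((n * L) • 𝟙 A) ⟶ kernel (L • 𝟙 A) :=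
    kernel.lift _ (kernel.ι _ ≫ (n • 𝟙 A)) (by
      rw [Category.assoc, comp_nsmul_id L, ← mul_nsmul', Nat.mul_comm L n, kernel.condition])
  let mK : kernel (L • 𝟙 K) ⟶ kernel (L • 𝟙 A) :=
    kernel.map (L • 𝟙 K) (L • 𝟙 A) i i (by simp)
  have hP := hE.pullback mA mK (hA _ (mul_pos hn hL)) (hK L hL) (hA L hL)
  let g : Limits.pullback mA mK ⟶ kernel (n • 𝟙 Q) :=
    kernel.lift _ (pullback.fst mA mK ≫ kernel.ι _ ≫ q) (by
      have h1 := pullback.condition (f := mA) (g := mK) =≫ (kernel.ι (L • 𝟙 A) ≫ q)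
      simp only [mA, mK, Category.assoc, kernel.lift_ι_assoc, w, comp_zero] at h1
      simp only [Category.assoc]
      rw [show q ≫ (n • 𝟙 Q) = (n • 𝟙 A) ≫ q by simp [Preadditive.comp_nsmul, Preadditive.nsmul_comp]]
      exact h1)
  let mK' : kernel ((n * L) • 𝟙 K) ⟶ kernel ((n * L) • 𝟙 A) :=
    kernel.map ((n * L) • 𝟙 K) ((n * L) • 𝟙 A) i i (by simp)
  let nK : kernel ((n * L) • 𝟙 K) ⟶ kernel (L • 𝟙 K) :=
    kernel.lift _ (kernel.ι _ ≫ (n • 𝟙 K)) (by
      rw [Category.assoc, comp_nsmul_id L, ← mul_nsmul', Nat.mul_comm L n, kernel.condition])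
  let f : kernel ((n * L) • 𝟙 K) ⟶ Limits.pullback mA mK := pullback.lift mK' nK (by
    apply (cancel_mono (kernel.ι (L • 𝟙 A))).1
    simp [mA, mK, mK', nK])
  have hfg : f ≫ g = 0 := by
    apply (cancel_mono (kernel.ι (n • 𝟙 Q))).1
    simp [f, g, mK', w, Limits.pullback.lift_fst_assoc]
  have : Epi g := by
    rw [epi_iff_surjective_up_to_refinements]
    intro T y
    have hy : n • (y ≫ kernel.ι (n • 𝟙 Q)) = 0 := by
      rw [← comp_nsmul_id, Category.assoc, kernel.condition, comp_zero]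
    obtain ⟨T₁, e₁, he₁, a, ha⟩ := surjective_up_to_refinements_of_epi q (y ≫ kernel.ι _)
    obtain ⟨T₂, e₂, he₂, k, hk⟩ := hex.exact_up_to_refinements (n • a) (by
      change (n • a) ≫ q = 0
      rw [Preadditive.nsmul_comp, ← ha, ← Preadditive.comp_nsmul, hy, comp_zero])
    have hk' : n • (e₂ ≫ a) = k ≫ i := by rw [← Preadditive.comp_nsmul]; exact hk
    obtain ⟨T₃, e₃, he₃, k₁, k₀, hk₀, hkk⟩ := hg.exists k
    let a' := (e₃ ≫ e₂) ≫ a - k₁ ≫ i
    have ha' : n • a' = k₀ ≫ i := by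
      simp only [a', nsmul_sub, Category.assoc, ← Preadditive.comp_nsmul]
      rw [Preadditive.comp_nsmul e₂ a n, hk', reassoc_of% hkk]
      simp [Preadditive.add_comp, Preadditive.nsmul_comp, Preadditive.comp_nsmul]
    let u : T₃ ⟶ kernel ((n * L) • 𝟙 A) := kernel.lift _ a' (by
      rw [comp_nsmul_id, mul_nsmul, ha', ← Preadditive.nsmul_comp, hk₀, zero_comp])
    let t : T₃ ⟶ kernel (L • 𝟙 K) := kernel.lift _ k₀ (by rw [comp_nsmul_id, hk₀])
    refine ⟨T₃, e₃ ≫ e₂ ≫ e₁, inferInstance, pullback.lift u t ((cancel_mono (kernel.ι (L • 𝟙 A))).1 ?_),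
      (cancel_mono (kernel.ι (n • 𝟙 Q))).1 ?_⟩
    · simp [mA, mK, u, t, ha', comp_nsmul_id]
    · simp [g, u, a', ha, Preadditive.sub_comp, w, Limits.pullback.lift_fst_assoc]
  refine hE.of_exact f g hfg ?_ (hK _ (mul_pos hn hL)) hP
  rw [ShortComplex.exact_iff_exact_up_to_refinements]
  intro T z hz
  have hz' : z ≫ g = 0 := hz
  have hzq : (z ≫ pullback.fst mA mK ≫ kernel.ι _) ≫ q = 0 := by
    simpa [g] using hz' =≫ kernel.ι (n • 𝟙 Q)
  obtain ⟨T', e, he, k, hk⟩ := hex.exact_up_to_refinements _ hzq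
  have hk' : e ≫ z ≫ pullback.fst mA mK ≫ kernel.ι _ = k ≫ i := hk
  refine ⟨T', e, he, kernel.lift _ k ?_, ?_⟩
  · rw [← cancel_mono i, zero_comp, comp_nsmul_id, Preadditive.nsmul_comp, ← hk', ← comp_nsmul_id,
      Category.assoc, Category.assoc, Category.assoc, kernel.condition]
    simp
  · change e ≫ z = _ ≫ f
    apply pullback.hom_ext
    · apply (cancel_mono (kernel.ι ((n * L) • 𝟙 A))).1
      simp [f, mK', hk', Limits.pullback.lift_fst_assoc]
    · apply (cancel_mono (kernel.ι (L • 𝟙 K))).1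
      apply (cancel_mono i).1
      have h1 := pullback.condition (f := mA) (g := mK) =≫ kernel.ι (L • 𝟙 A)
      simp only [mA, mK, Category.assoc, kernel.lift_ι] at h1
      have h2 := congrArg (fun t => e ≫ z ≫ t) h1
      simp only [Category.assoc, f, pullback.lift_snd_assoc, nK, kernel.lift_ι, kernel.lift_ι_assoc] at h2 ⊢
      rw [← h2]
      simp [Preadditive.comp_nsmul, Preadditive.nsmul_comp, hk']
      exact congrArg (n • ·) hk'

theorem cof_image {A B : V} (f : A ⟶ B) (hA : Cof E A) (hB : Cof E B) : Cof E (Abelian.image f) :=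
  cof_of_epi hE (kernel.ι f) (Abelian.factorThruImage f)
    ((cancel_mono (Abelian.image.ι f)).1 (by rw [Category.assoc, Abelian.image.fac, kernel.condition, zero_comp]))
    (by
      rw [ShortComplex.exact_iff_exact_up_to_refinements]
      intro T x hx
      have hx' : x ≫ Abelian.factorThruImage f = 0 := hx
      exact ⟨T, 𝟙 T, inferInstance, kernel.lift f x (by rw [← Abelian.image.fac f, reassoc_of% hx', zero_comp]),
        by simp⟩)
    (cof_kernel hE f hA hB) hA

theorem cof_cokernel {A B : V} (f : A ⟶ B) (hA : Cof E A) (hB : Cof E B) : Cof E (cokernel f) :=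
  cof_of_epi hE (Abelian.image.ι f) (cokernel.π f) (kernel.condition _)
    (ShortComplex.exact_of_f_is_kernel (ShortComplex.mk (Abelian.image.ι f) (cokernel.π f) (kernel.condition _))
      (kernelIsKernel _))
    (cof_image hE f hA hB) hB

end Groth.Agent.Lib.IndCof.Basic
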