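import Groth.Agent.Lib.IndCof.Extra
import Mathlib.CategoryTheory.Limits.Shapes.Products
import Mathlib.Data.Nat.Factorial.Basic

/-!
The largest divisible subobject of an object of cofinite type.
-/

set_option autoImplicit false

open CategoryTheory CategoryTheory.Limits

namespace Groth.Agent.Lib.IndCof.Divisible

open Groth.Agent.Lib.IndCof.Basic Groth.Agent.Lib.IndCof.Extra

universe v u

variable {V : Type u} [Category.{v} V] [Abelian V]

/-- The image of `A[n m]` under multiplication by `m`. -/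
noncomputable abbrev lev (A : V) (n m : ℕ) : Subobject A :=
  imageSubobject (kernel.ι ((n * m) • 𝟙 A) ≫ (m • 𝟙 A))

variable {A T : V}

lemma mem_lev (n m : ℕ) (z : T ⟶ A) :
    (lev A n m).Factors z ↔ ∃ (T' : V) (e : T' ⟶ T) (_ : Epi e) (y : T' ⟶ A), (n * m) • y = 0 ∧ e ≫ z = m • y := by
  rw [mem_image_iff]
  constructor
  · rintro ⟨T', e, he, y, hy⟩
    exact ⟨T', e, he, y ≫ kernel.ι _, by
      rw [← comp_nsmul_id, Category.assoc, kernel.condition, comp_zero],
      by rw [hy, ← Category.assoc, comp_nsmul_id]⟩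
  · rintro ⟨T', e, he, y, hy0, hy⟩
    exact ⟨T', e, he, kernel.lift _ y (by rw [comp_nsmul_id, hy0]),
      by rw [hy, kernel.lift_ι_assoc, comp_nsmul_id]⟩

lemma lev_le_of_dvd (n : ℕ) {a b : ℕ} (h : a ∣ b) : lev A n b ≤ lev A n a :=
  le_of_mem fun T z hz => by
    obtain ⟨d, rfl⟩ := h
    obtain ⟨T', e, he, y, hy0, hy⟩ := (mem_lev _ _ _).1 hz
    refine (mem_lev _ _ _).2 ⟨T', e, he, d • y, ?_, ?_⟩
    · rw [← mul_nsmul', Nat.mul_assoc, hy0]
    · rw [hy, ← mul_nsmul']

lemma lev_mem {E : ObjectProperty V} (hE : Small E) (hA : Cof E A) (n m : ℕ) (hn : 0 < n) (hm : 0 < m) :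
    E (lev A n m : V) := by
  have hk : (kernel.ι ((n * m) • 𝟙 A) ≫ (m • 𝟙 A)) ≫ (n • 𝟙 A) = 0 := by
    rw [comp_nsmul_id, comp_nsmul_id, ← mul_nsmul']
    exact (comp_nsmul_id _ _).symm.trans (kernel.condition _)
  have h1 := hE.imageSub (kernel.lift (n • 𝟙 A) (kernel.ι ((n * m) • 𝟙 A) ≫ (m • 𝟙 A)) hk)
    (kernel.ι (n • 𝟙 A)) (hA _ (mul_pos hn hm)) (hA n hn)
  rwa [kernel.lift_ι] at h1

/-- The stable levels. -/
lemma exists_levels {E : ObjectProperty V} (hE : Small E) (hA : Cof E A) :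
    ∃ M : ℕ → ℕ, (∀ n, 0 < M n) ∧ ∀ n, 0 < n → ∀ m, 0 < m → lev A n (M n) ≤ lev A n m := by
  have h : ∀ n : ℕ, ∃ M, 0 < M ∧ (0 < n → ∀ m, 0 < m → lev A n M ≤ lev A n m) := by
    intro n
    rcases Nat.eq_zero_or_pos n with hn | hn
    · exact ⟨1, one_pos, fun h => absurd hn h.ne'⟩
    let S : ℕ → Subobject A := fun j => lev A n j.factorial
    obtain ⟨N, hN⟩ := hE.artinian S
      (antitone_nat_of_succ_le fun j => lev_le_of_dvd n (Nat.factorial_dvd_factorial (Nat.le_succ j)))
      (fun j => lev_mem hE hA n _ hn (Nat.factorial_pos j))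
    refine ⟨N.factorial, Nat.factorial_pos N, fun _ m hm => ?_⟩
    have h1 : lev A n (max N m).factorial = lev A n N.factorial := hN _ (le_max_left _ _)
    rw [← h1]
    exact lev_le_of_dvd n (Nat.dvd_factorial hm (le_max_right _ _))
  choose M h1 h2 using h
  exact ⟨M, h1, h2⟩

/-- The largest divisible subobject. -/
theorem exists_largest_divisible [HasCoproductsOfShape ℕ V] {E : ObjectProperty V} (hE : Small E) (hA : Cof E A) :
    ∃ D : Subobject A, (∀ k : ℕ, 0 < k → Epi (k • 𝟙 (D : V))) ∧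
      (∀ D' : Subobject A, (∀ k : ℕ, 0 < k → Epi (k • 𝟙 (D' : V))) → D' ≤ D) ∧
      Cof E (D : V) ∧ Cof E (cokernel D.arrow) := by
  obtain ⟨M, hM, hst⟩ := exists_levels hE hA
  let P : ℕ → Subobject A := fun i => lev A (i + 1) (M (i + 1))
  let σ : (∐ fun i => (P i : V)) ⟶ A := Sigma.desc fun i => (P i).arrow
  let D : Subobject A := imageSubobject σ
  have hPD : ∀ n, 0 < n → lev A n (M n) ≤ D := fun n hn => by
    obtain ⟨i, rfl⟩ : ∃ i, n = i + 1 := ⟨n - 1, by omega⟩
    refine le_of_mem fun T z hz => ?_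
    exact (mem_image_iff σ z).2 ⟨T, 𝟙 T, inferInstance,
      (P i).factorThru z hz ≫ Sigma.ι (fun i => (P i : V)) i, by simp [σ]⟩
  have hDle : ∀ R : Subobject A, (∀ n, 0 < n → lev A n (M n) ≤ R) → D ≤ R := fun R hR => by
    have h0 : σ ≫ cokernel.π R.arrow = 0 := Sigma.hom_ext _ _ fun i => by
      rw [Sigma.ι_desc_assoc, comp_zero, ← Subobject.ofLE_arrow (hR (i + 1) i.succ_pos), Category.assoc,
        cokernel.condition, comp_zero]
    refine imageSubobject_le σ (Abelian.monoLift R.arrow σ h0) (Abelian.monoLift_comp R.arrow _ _)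
  have hdiv : ∀ k : ℕ, 0 < k → Epi (k • 𝟙 (D : V)) := fun k hk => by
    rw [epi_iff_surjective_up_to_refinements]
    intro T x
    have hle : D ≤ imageSubobject (k • D.arrow) := hDle _ fun n hn => le_of_mem fun T z hz => by
      have hnk : 0 < n * k := mul_pos hn hk
      obtain ⟨T', e, he, y, hy0, hy⟩ := (mem_lev _ _ _).1
        (Subobject.factors_of_le _ (hst n hn (k * M (n * k)) (mul_pos hk (hM _))) hz)
      have hy' : (lev A (n * k) (M (n * k))).Factors (M (n * k) • y) :=
        (mem_lev _ _ _).2 ⟨T', 𝟙 T', inferInstance, y, by rw [Nat.mul_assoc, hy0], Category.id_comp _⟩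
      have hyD := Subobject.factors_of_le _ (hPD _ hnk) hy'
      refine (mem_image_iff _ _).2 ⟨T', e, he, D.factorThru _ hyD, ?_⟩
      rw [hy, Preadditive.comp_nsmul, Subobject.factorThru_arrow, ← mul_nsmul']
    obtain ⟨T', e, he, y, hy⟩ := (mem_image_iff _ _).1
      (Subobject.factors_of_le _ hle (factors_arrow_comp D x))
    refine ⟨T', e, he, y, (cancel_mono D.arrow).1 ?_⟩
    rw [Category.assoc, hy, comp_nsmul_id, Preadditive.nsmul_comp, Preadditive.comp_nsmul]
  have hmem : ∀ (n : ℕ), 0 < n → ∀ (S : Subobject A), (∀ k : ℕ, 0 < k → Epi (k • 𝟙 (S : V))) →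
      ∀ {T : V} (x : T ⟶ A), S.Factors x → n • x = 0 → (lev A n (M n)).Factors x := by
    intro n hn S hS T x hx hnx
    haveI := hS _ (hM n)
    obtain ⟨T', e, he, y, hy⟩ := surjective_up_to_refinements_of_epi (M n • 𝟙 (S : V)) (S.factorThru x hx)
    have hy' : e ≫ x = M n • (y ≫ S.arrow) := by
      have := hy =≫ S.arrow
      rwa [Category.assoc, Subobject.factorThru_arrow, comp_nsmul_id, Preadditive.nsmul_comp] at this
    refine (mem_lev _ _ _).2 ⟨T', e, he, y ≫ S.arrow, ?_, hy'⟩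
    rw [mul_nsmul', ← hy', ← Preadditive.comp_nsmul, hnx, comp_zero]
  have hlargest : ∀ D' : Subobject A, (∀ k : ℕ, 0 < k → Epi (k • 𝟙 (D' : V))) → D' ≤ D := fun D' hD' => by
    have h0 : D'.arrow ≫ cokernel.π D.arrow = 0 := hE.separating _ fun X h hX => by
      obtain ⟨n, hn, hn0⟩ := hE.torsion X hX
      have h1 : n • (h ≫ D'.arrow) = 0 := by
        rw [← Category.id_comp (h ≫ D'.arrow), ← Preadditive.nsmul_comp, hn0, zero_comp]
      have h2 := Subobject.factors_of_le _ (hPD n hn) (hmem n hn D' hD' _ (factors_arrow_comp D' h) h1)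
      rw [← Category.assoc, ← Subobject.factorThru_arrow D _ h2, Category.assoc, cokernel.condition, comp_zero]
    exact Subobject.le_of_comm (Abelian.monoLift D.arrow D'.arrow h0) (Abelian.monoLift_comp D.arrow _ _)
  have hcof : Cof E (D : V) := fun n hn => by
    let j : kernel (n • 𝟙 (D : V)) ⟶ A := kernel.ι _ ≫ D.arrow
    have e : Subobject.mk j = lev A n (M n) := by
      refine le_antisymm (le_of_mem fun T x hx => ?_) (le_of_mem fun T x hx => ?_)
      · obtain ⟨y, hy⟩ : ∃ y : T ⟶ kernel (n • 𝟙 (D : V)), y ≫ j = x := (Subobject.mk_factors_iff _ _).1 hx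
        subst hy
        refine hmem n hn D hdiv _ ?_ ?_
        · show D.Factors (y ≫ kernel.ι (n • 𝟙 (D : V)) ≫ D.arrow)
          rw [← Category.assoc]; exact factors_arrow_comp D _
        · show n • (y ≫ kernel.ι (n • 𝟙 (D : V)) ≫ D.arrow) = 0
          rw [← Category.assoc, ← Preadditive.nsmul_comp, ← comp_nsmul_id, Category.assoc y, kernel.condition, comp_zero,
            zero_comp]
      · have hxD := Subobject.factors_of_le _ (hPD n hn) hx
        have hnx : n • x = 0 := by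
          obtain ⟨T', e, he, y, hy0, hy⟩ := (mem_lev _ _ _).1 hx
          exact nsmul_eq_zero_of_epi e (by rw [hy, ← mul_nsmul', hy0])
        refine (Subobject.mk_factors_iff _ _).2 ⟨kernel.lift _ (D.factorThru x hxD) ?_, ?_⟩
        · apply (cancel_mono D.arrow).1
          rw [comp_nsmul_id, Preadditive.nsmul_comp, Subobject.factorThru_arrow, hnx, zero_comp]
        · simp [j]
    exact hE.iso (Subobject.isoOfEq _ _ e.symm ≪≫ Subobject.underlyingIso j) (lev_mem hE hA n _ hn (hM n))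
  exact ⟨D, hdiv, hlargest, hcof, cof_cokernel hE D.arrow hcof hA⟩

end Groth.Agent.Lib.IndCof.Divisible
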