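/-
Consequences of the torsion calculus: divisible parts, chains of subobjects, prime-power torsion.
-/
import Groth.Agent.Lib.IndCof.Basic
import Mathlib.Data.Finset.Lattice.Fold
import Mathlib.Algebra.BigOperators.Group.Finset.Basic

set_option autoImplicit false

open CategoryTheory CategoryTheory.Limits

namespace Groth.Agent.Lib.IndCof.Extra

open Groth.Agent.Lib.IndCof.Basic

universe v u

variable {V : Type u} [Category.{v} V] [Abelian V]

section basic

variable {A T : V}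

lemma factors_arrow_comp (S : Subobject A) (y : T ⟶ (S : V)) : S.Factors (y ≫ S.arrow) :=
  Subobject.factors_of_factors_right _ ((Subobject.factors_iff _ _).2 ⟨𝟙 _, by simp⟩)

lemma mem_image_nsmul (m : ℕ) (z : T ⟶ A) :
    (imageSubobject (m • 𝟙 A)).Factors z ↔
      ∃ (T' : V) (e : T' ⟶ T) (_ : Epi e) (y : T' ⟶ A), e ≫ z = m • y := by
  simp only [mem_image_iff, comp_nsmul_id]

lemma nsmul_mem_image (m : ℕ) (x : T ⟶ A) : (imageSubobject (m • 𝟙 A)).Factors (m • x) :=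
  (mem_image_nsmul m _).2 ⟨T, 𝟙 T, inferInstance, x, Category.id_comp _⟩

lemma image_le_of_dvd {a b : ℕ} (h : a ∣ b) : imageSubobject (b • 𝟙 A) ≤ imageSubobject (a • 𝟙 A) :=
  le_of_mem fun T z hz => by
    obtain ⟨d, rfl⟩ := h
    obtain ⟨T', e, he, y, hy⟩ := (mem_image_nsmul _ _).1 hz
    exact (mem_image_nsmul _ _).2 ⟨T', e, he, d • y, by rw [hy, mul_nsmul']⟩

lemma epi_nsmul_pow {D : V} (p : ℕ) [Epi (p • 𝟙 D)] : ∀ N : ℕ, Epi ((p ^ N) • 𝟙 D)
  | 0 => by rw [pow_zero, one_nsmul]; infer_instance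
  | N + 1 => by
    have := epi_nsmul_pow p N (D := D)
    have h : (p ^ (N + 1)) • 𝟙 D = (p • 𝟙 D) ≫ ((p ^ N) • 𝟙 D) := by
      rw [comp_nsmul_id, ← mul_nsmul', pow_succ]
    rw [h]; infer_instance

lemma le_image_of_epi (D : Subobject A) (m : ℕ) [Epi (m • 𝟙 (D : V))] :
    D ≤ imageSubobject (m • 𝟙 A) :=
  Subobject.le_of_factors (factors_local _ (m • 𝟙 (D : V)) (by
    rw [Preadditive.nsmul_comp, Category.id_comp]
    exact nsmul_mem_image m _))

lemma epi_nsmul_image (m k : ℕ)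
    (h : imageSubobject (m • 𝟙 A) ≤ imageSubobject ((k * m) • 𝟙 A)) :
    Epi (k • 𝟙 (imageSubobject (m • 𝟙 A) : V)) := by
  rw [epi_iff_surjective_up_to_refinements]
  intro T y
  obtain ⟨T', e, he, a, ha⟩ := (mem_image_nsmul _ _).1
    (Subobject.factors_of_le _ h (factors_arrow_comp _ y))
  refine ⟨T', e, he, (imageSubobject (m • 𝟙 A)).factorThru (m • a) (nsmul_mem_image m a), ?_⟩
  apply (cancel_mono (imageSubobject (m • 𝟙 A)).arrow).1
  rw [Category.assoc, ha, comp_nsmul_id, Preadditive.nsmul_comp, Subobject.factorThru_arrow, ← mul_nsmul']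

lemma image_arrow_comp_eq_zero (m : ℕ) {Q : V} (q : A ⟶ Q) (h : m • q = 0) :
    (imageSubobject (m • 𝟙 A)).arrow ≫ q = 0 := by
  rw [← cancel_epi (factorThruImageSubobject (m • 𝟙 A)), imageSubobject_arrow_comp_assoc, comp_zero,
    Preadditive.nsmul_comp, Category.id_comp, h]

lemma nsmul_cokernel_image (m : ℕ) : m • 𝟙 (cokernel (imageSubobject (m • 𝟙 A)).arrow) = 0 := by
  rw [← cancel_epi (cokernel.π (imageSubobject (m • 𝟙 A)).arrow), comp_zero, comp_nsmul_id]
  have h := factorThruImageSubobject (m • 𝟙 A) ≫=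
    cokernel.condition (imageSubobject (m • 𝟙 A)).arrow
  rwa [imageSubobject_arrow_comp_assoc, comp_zero, Preadditive.nsmul_comp, Category.id_comp] at h

/-- `M • (A / B') = 0` means `M A ⊆ B'`. -/
lemma nsmul_mem_of_killed (B' : Subobject A) (M : ℕ) (h : M • 𝟙 (cokernel B'.arrow) = 0) (x : T ⟶ A) :
    B'.Factors (M • x) := by
  refine (Subobject.factors_iff _ _).2 ⟨Abelian.monoLift B'.arrow (M • x) ?_, Abelian.monoLift_comp B'.arrow _ _⟩
  rw [Preadditive.nsmul_comp, ← comp_nsmul_id, h, comp_zero]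

lemma image_eq_of_killed (B' : Subobject A) (M j : ℕ) (h : M • 𝟙 (cokernel B'.arrow) = 0)
    [Epi ((M * j) • 𝟙 (B' : V))] : imageSubobject ((M * j) • 𝟙 A) = B' :=
  le_antisymm
    (le_of_mem fun T z hz => by
      obtain ⟨T', e, he, y, hy⟩ := (mem_image_nsmul _ _).1 hz
      exact factors_local _ e (by rw [hy, mul_nsmul']; exact nsmul_mem_of_killed B' M h _))
    (le_image_of_epi B' _)

lemma le_of_killed (B' D : Subobject A) (M : ℕ) (h : M • 𝟙 (cokernel B'.arrow) = 0)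
    [Epi (M • 𝟙 (D : V))] : D ≤ B' :=
  Subobject.le_of_factors (factors_local _ (M • 𝟙 (D : V)) (by
    rw [Preadditive.nsmul_comp, Category.id_comp]
    exact nsmul_mem_of_killed B' M h _))

theorem ml_iff (B : V) :
    (∀ n : ℕ, 0 < n → ∃ m : ℕ, 0 < m ∧ n ∣ m ∧ ∀ m' : ℕ, 0 < m' → m ∣ m' →
        imageSubobject ((m' / n) • 𝟙 B) = imageSubobject ((m / n) • 𝟙 B)) ↔
      ∃ B' : Subobject B, (∀ k : ℕ, 0 < k → Epi (k • 𝟙 (B' : V))) ∧
        ∃ M : ℕ, 0 < M ∧ M • 𝟙 (cokernel B'.arrow) = 0 := by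
  constructor
  · intro h
    obtain ⟨m, hm, -, hstab⟩ := h 1 one_pos
    refine ⟨imageSubobject (m • 𝟙 B), fun k hk => epi_nsmul_image m k ?_, m, hm, nsmul_cokernel_image m⟩
    have := hstab (k * m) (mul_pos hk hm) (Dvd.intro_left k rfl)
    simp only [Nat.div_one] at this
    exact this.ge
  · rintro ⟨B', hdiv, M, hM, hkill⟩ n hn
    refine ⟨n * M, mul_pos hn hM, Dvd.intro M rfl, fun m' hm' hdvd => ?_⟩
    obtain ⟨j, rfl⟩ := hdvd
    rw [Nat.mul_assoc, Nat.mul_div_cancel_left _ hn, Nat.mul_div_cancel_left _ hn]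
    have hj : 0 < M * j := Nat.pos_of_ne_zero fun h => by rw [Nat.mul_assoc, h, Nat.mul_zero] at hm'; exact lt_irrefl 0 hm'
    have := hdiv _ hj
    have := hdiv _ (show 0 < M * 1 by omega)
    rw [image_eq_of_killed B' M j hkill]
    conv_rhs => rw [← Nat.mul_one M, image_eq_of_killed B' M 1 hkill]

end basic

variable {E : ObjectProperty V} (hE : Small E)
include hE

omit hE in
lemma cof_iso {E : ObjectProperty V} (hE : Small E) {A B : V} (e : A ≅ B) (hA : Cof E A) : Cof E B :=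
  fun n hn => hE.iso (kernel.mapIso (n • 𝟙 A) (n • 𝟙 B) e e (by simp)) (hA n hn)

theorem cof_imageSubobject {A B : V} (f : A ⟶ B) (hA : Cof E A) (hB : Cof E B) :
    Cof E (imageSubobject f : V) :=
  cof_iso hE (Abelian.imageIsoImage f ≪≫ (imageSubobjectIso f).symm) (cof_image hE f hA hB)

lemma cokernel_imageSubobject_mem {A : V} (hA : Cof E A) (m : ℕ) (hm : 0 < m) :
    E (cokernel (imageSubobject (m • 𝟙 A)).arrow) :=
  hE.iso ((cokernelIsoOfEq (imageSubobject_arrow_comp (m • 𝟙 A)).symm) ≪≫ cokernelEpiComp _ _)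
    (cokernel_mem hE hA m hm)

/-- Finitely many bad primes give a divisible part. -/
theorem divisible_of_finite {A : V} (hA : Cof E A) (S : Finset ℕ) (hSp : ∀ p ∈ S, p.Prime)
    (hS : ∀ p : ℕ, p.Prime → p ∉ S → Epi (p • 𝟙 A)) :
    ∃ M : ℕ, 0 < M ∧ ∀ k, 0 < k → Epi (k • 𝟙 (imageSubobject (M • 𝟙 A) : V)) := by
  have hN : ∀ p : ℕ, ∃ N : ℕ, p ∈ S → Gen A p (p ^ N) := fun p => by
    by_cases h : p ∈ S
    · obtain ⟨N, hN⟩ := exists_gen_prime hE hA p (hSp p h); exact ⟨N, fun _ => hN⟩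
    · exact ⟨0, fun h' => absurd h' h⟩
  choose N hN using hN
  refine ⟨∏ p ∈ S, p ^ N p, Finset.prod_pos fun p hp => pow_pos (hSp p hp).pos _, ?_⟩
  intro k hk
  apply epi_nsmul_image
  induction k using induction_on_primes with
  | zero => omega
  | one => rw [one_mul]
  | prime_mul q b hq ih =>
    refine (ih (Nat.pos_of_ne_zero (by rintro rfl; simp at hk))).trans (le_of_mem fun T z hz => ?_)
    obtain ⟨T₁, e₁, he₁, y, hy⟩ := (mem_image_nsmul _ _).1 hz
    by_cases hqS : q ∈ S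
    · obtain ⟨T₂, e₂, he₂, a, c, hc, hac⟩ := (hN q hqS).exists y
      refine (mem_image_nsmul _ _).2 ⟨T₂, e₂ ≫ e₁, inferInstance, a, ?_⟩
      obtain ⟨d, hd⟩ := Finset.dvd_prod_of_mem (fun p => p ^ N p) hqS
      have h0 : (b * ∏ p ∈ S, p ^ N p) • c = 0 := by
        rw [hd, Nat.mul_left_comm, mul_nsmul, hc, smul_zero]
      rw [Category.assoc, hy, Preadditive.comp_nsmul, hac, nsmul_add, h0, add_zero, ← mul_nsmul',
        Nat.mul_comm q b, Nat.mul_right_comm b q]
    · have := hS q hq hqS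
      obtain ⟨T₂, e₂, he₂, a, ha⟩ := surjective_up_to_refinements_of_epi (q • 𝟙 A) y
      refine (mem_image_nsmul _ _).2 ⟨T₂, e₂ ≫ e₁, inferInstance, a, ?_⟩
      rw [Category.assoc, hy, Preadditive.comp_nsmul, ha, comp_nsmul_id, ← mul_nsmul',
        Nat.mul_comm q b, Nat.mul_right_comm b q]

lemma epi_of_killed {A : V} (B' : Subobject A) (M p : ℕ) (hp : p.Prime) (hpM : ¬ p ∣ M)
    (hkill : M • 𝟙 (cokernel B'.arrow) = 0) [Epi (p • 𝟙 (B' : V))] : Epi (p • 𝟙 A) := by
  rw [epi_iff_surjective_up_to_refinements]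
  intro T x
  obtain ⟨a, b, hab⟩ : IsCoprime (p : ℤ) (M : ℤ) :=
    (Int.isCoprime_iff_nat_coprime).2 (by simpa using (hp.coprime_iff_not_dvd).2 hpM)
  obtain ⟨T', e, he, u, hu⟩ := surjective_up_to_refinements_of_epi (p • 𝟙 (B' : V))
    (B'.factorThru (M • x) (nsmul_mem_of_killed B' M hkill x))
  have hu' : e ≫ (M • x) = p • (u ≫ B'.arrow) := by
    have := hu =≫ B'.arrow
    simpa [Category.assoc, Preadditive.nsmul_comp, Preadditive.comp_nsmul] using this
  refine ⟨T', e, he, a • (e ≫ x) + b • (u ≫ B'.arrow), ?_⟩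
  rw [comp_nsmul_id, nsmul_add, smul_comm p a, smul_comm p b, ← hu', ← Preadditive.comp_nsmul,
    ← Preadditive.comp_zsmul, ← Preadditive.comp_zsmul, ← Preadditive.comp_add, ← natCast_zsmul,
    ← natCast_zsmul, smul_smul, smul_smul, ← add_zsmul, hab, one_zsmul]

/-- Descending chain condition for subobjects of cofinite type. -/
theorem chain_stable {A : V} (hA : Cof E A) (p : ℕ) (hp : p.Prime)
    (hpt : ∀ X, E X → ∃ k : ℕ, (p ^ k) • 𝟙 X = 0)
    (S : ℕ → Subobject A) (hS : Antitone S) (hcof : ∀ m, Cof E (S m : V)) :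
    ∃ N : ℕ, ∀ m : ℕ, N ≤ m → S m = S N := by
  have hpos : ∀ k, 0 < p ^ k := fun k => pow_pos hp.pos k
  let I : ℕ → ℕ → Subobject A := fun m n =>
    imageSubobject (kernel.ι (p ^ (n + 1) • 𝟙 (S m : V)) ≫ (S m).arrow ≫ (p ^ n • 𝟙 A))
  have hmem : ∀ m n {T : V} (z : T ⟶ A), (I m n).Factors z ↔ ∃ (T' : V) (e : T' ⟶ T) (_ : Epi e)
      (y : T' ⟶ A), (S m).Factors y ∧ p ^ (n + 1) • y = 0 ∧ e ≫ z = p ^ n • y := by
    intro m n T z
    rw [mem_image_iff]
    constructor
    · rintro ⟨T', e, he, y, hy⟩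
      refine ⟨T', e, he, (y ≫ kernel.ι _) ≫ (S m).arrow, factors_arrow_comp _ _, ?_, ?_⟩
      · rw [← Preadditive.nsmul_comp, ← comp_nsmul_id (p ^ (n + 1)), Category.assoc y, kernel.condition,
          comp_zero, zero_comp]
      · rw [hy, ← comp_nsmul_id (p ^ n) ((y ≫ kernel.ι _) ≫ (S m).arrow)]; simp only [Category.assoc]
    · rintro ⟨T', e, he, y, hyS, hy0, hy⟩
      refine ⟨T', e, he, kernel.lift _ ((S m).factorThru y hyS) ?_, ?_⟩
      · rw [comp_nsmul_id, ← cancel_mono (S m).arrow, Preadditive.nsmul_comp, Subobject.factorThru_arrow,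
          hy0, zero_comp]
      · rw [hy, kernel.lift_ι_assoc, Subobject.factorThru_arrow_assoc, comp_nsmul_id]
  have hEI : ∀ m n, E (I m n : V) := by
    intro m n
    have h1 := hE.imageSub
      (kernel.lift (p • 𝟙 A) (kernel.ι (p ^ (n + 1) • 𝟙 (S m : V)) ≫ (S m).arrow ≫ (p ^ n • 𝟙 A)) (by
        rw [Category.assoc, Category.assoc, comp_nsmul_id p (p ^ n • 𝟙 A), ← mul_nsmul', ← pow_succ',
          comp_nsmul_id, ← Category.id_comp (S m).arrow, ← Preadditive.nsmul_comp, kernel.condition_assoc,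
          zero_comp]))
      (kernel.ι (p • 𝟙 A)) (hcof m _ (hpos _)) (hA p hp.pos)
    rwa [kernel.lift_ι] at h1
  have hanti1 : ∀ n {m m' : ℕ}, m ≤ m' → I m' n ≤ I m n := fun n m m' h => le_of_mem fun T z hz => by
    obtain ⟨T', e, he, y, hyS, hy0, hy⟩ := (hmem m' n z).1 hz
    exact (hmem m n z).2 ⟨T', e, he, y, Subobject.factors_of_le _ (hS h) hyS, hy0, hy⟩
  have hanti2 : ∀ m, Antitone (I m) := fun m => antitone_nat_of_succ_le fun n => le_of_mem fun T z hz => by
    obtain ⟨T', e, he, y, hyS, hy0, hy⟩ := (hmem m (n + 1) z).1 hz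
    refine (hmem m n z).2 ⟨T', e, he, p • y, mem_nsmul hyS p, ?_, ?_⟩
    · rw [← mul_nsmul', ← pow_succ]; exact hy0
    · rw [hy, ← mul_nsmul', pow_succ]
  obtain ⟨K, hK⟩ := hE.artinian (fun k => I k k)
    (fun a b h => (hanti1 b h).trans (hanti2 a h)) (fun k => hEI k k)
  have hn : ∀ n, ∃ M, ∀ m, M ≤ m → I m n = I M n := fun n =>
    hE.artinian (fun m => I m n) (fun a b h => hanti1 n h) (fun m => hEI m n)
  choose Mn hMn using hn
  let M0 := max K ((Finset.range K).sup Mn)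
  refine ⟨M0, fun m hm => ?_⟩
  have hKm : K ≤ M0 := le_max_left _ _
  have heq : ∀ n, I M0 n ≤ I m n := by
    intro n
    by_cases hnK : n < K
    · have h1 : Mn n ≤ M0 :=
        (Finset.le_sup (f := Mn) (Finset.mem_range.2 hnK)).trans (le_max_right _ _)
      rw [hMn n M0 h1, hMn n m (h1.trans hm)]
    · have hKn : K ≤ n := by omega
      let j := max m n
      calc I M0 n ≤ I K n := hanti1 n hKm
        _ ≤ I K K := hanti2 K hKn
        _ = I j j := (hK j (le_max_of_le_right hKn)).symm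
        _ ≤ I m j := hanti1 j (le_max_left _ _)
        _ ≤ I m n := hanti2 m (le_max_right _ _)
  have key : ∀ n {T : V} (x : T ⟶ A), (S M0).Factors x → p ^ n • x = 0 → (S m).Factors x := by
    intro n
    induction n with
    | zero => intro T x hxS hx; rw [pow_zero, one_nsmul] at hx; subst hx; exact Subobject.factors_zero
    | succ n ih =>
      intro T x hxS hx
      have h1 : (I m n).Factors (p ^ n • x) := Subobject.factors_of_le _ (heq n)
        ((hmem M0 n _).2 ⟨T, 𝟙 T, inferInstance, x, hxS, hx, by simp⟩)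
      obtain ⟨T', e, he, y, hyS, -, hy⟩ := (hmem m n _).1 h1
      refine factors_local _ e ?_
      rw [← sub_add_cancel (e ≫ x) y]
      refine Subobject.factors_add _ _ (ih _ ?_ ?_) hyS
      · have := mem_zsmul (Subobject.factors_of_le _ (hS hm) hyS) (-1)
        rw [neg_one_zsmul] at this
        rw [sub_eq_add_neg]
        exact Subobject.factors_add _ _ (Subobject.factors_of_factors_right e hxS) this
      · rw [nsmul_sub, ← hy, Preadditive.comp_nsmul, sub_self]
  refine le_antisymm (hS hm) (Subobject.le_of_factors ?_)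
  refine (Subobject.factors_iff _ _).2
    ⟨Abelian.monoLift (S m).arrow (S M0).arrow (hE.separating _ fun X h hX => ?_), Abelian.monoLift_comp (S m).arrow _ _⟩
  obtain ⟨k, hk⟩ := hpt X hX
  have : (S m).Factors (h ≫ (S M0).arrow) := key k _ (factors_arrow_comp _ _) (by
    rw [← Category.id_comp (h ≫ (S M0).arrow), ← Preadditive.nsmul_comp, hk, zero_comp])
  rw [← Category.assoc, ← Subobject.factorThru_arrow _ _ this, Category.assoc, cokernel.condition, comp_zero]

/-- Prime-power torsion control suffices for cofinite type. -/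
theorem cof_of_prime_pow {A : V} (p : ℕ) (hp : p.Prime)
    (hpt : ∀ X, E X → ∃ k : ℕ, (p ^ k) • 𝟙 X = 0)
    (hA : ∀ n : ℕ, E (kernel ((p ^ n) • 𝟙 A))) : Cof E A := by
  intro n hn
  obtain ⟨v, m, hm, rfl⟩ := Nat.exists_eq_pow_mul_and_not_dvd hn.ne' p hp.ne_one
  have hmono : Mono (m • 𝟙 A) := by
    refine Preadditive.mono_of_cancel_zero _ fun {T} g hg => hE.separating g fun X h hX => ?_
    obtain ⟨k, hk⟩ := hpt X hX
    obtain ⟨a, b, hab⟩ : IsCoprime ((p : ℤ) ^ k) (m : ℤ) :=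
      ((Int.isCoprime_iff_nat_coprime).2 (by simpa using (hp.coprime_iff_not_dvd).2 hm)).pow_left
    have h1 : ((p : ℤ) ^ k) • (h ≫ g) = 0 := by
      rw [← Nat.cast_pow, natCast_zsmul, ← Category.id_comp (h ≫ g), ← Preadditive.nsmul_comp, hk, zero_comp]
    have h2 : (m : ℤ) • (h ≫ g) = 0 := by
      rw [natCast_zsmul, ← comp_nsmul_id, Category.assoc, hg, comp_zero]
    rw [← one_zsmul (h ≫ g), ← hab, add_zsmul, mul_smul, mul_smul, h1, h2, smul_zero, smul_zero, add_zero]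
  have h : (p ^ v * m) • 𝟙 A = (p ^ v • 𝟙 A) ≫ (m • 𝟙 A) := by
    rw [comp_nsmul_id, ← mul_nsmul', Nat.mul_comm]
  exact hE.iso ((kernelCompMono (p ^ v • 𝟙 A) (m • 𝟙 A)).symm ≪≫ kernelIsoOfEq h.symm) (hA v)

end Groth.Agent.Lib.IndCof.Extra
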