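/-
The torsion calculus applies to ind-objects of an abelian category of Artinian torsion objects.
-/
import Groth.Agent.Lib.IndCof.Extra
import Mathlib.CategoryTheory.Abelian.Indization
import Mathlib.CategoryTheory.Generator.Indization
import Mathlib.CategoryTheory.Subobject.ArtinianObject
import Mathlib.CategoryTheory.Preadditive.AdditiveFunctor
import Mathlib.CategoryTheory.Limits.Preserves.Shapes.Kernels

set_option autoImplicit false

open CategoryTheory CategoryTheory.Limits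

namespace Groth.Agent.Lib.IndCof.IndC

open Groth.Agent.Lib.IndCof.Basic

universe v

variable {C : Type v} [SmallCategory C] [Abelian C]

lemma additive_yoneda : (Ind.yoneda (C := C)).Additive :=
  haveI := preservesBinaryBiproducts_of_preservesBinaryProducts (Ind.yoneda (C := C))
  Functor.additive_of_preservesBinaryBiproducts _

/-- Torsion is inherited by the essential image. -/
lemma torsion_image (P : ℕ → Prop) (htor : ∀ X : C, ∃ n : ℕ, P n ∧ n • 𝟙 X = 0)
    (X : Ind C) (hX : (Ind.yoneda (C := C)).essImage X) : ∃ n : ℕ, P n ∧ n • 𝟙 X = 0 := by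
  have := additive_yoneda (C := C)
  obtain ⟨Y, ⟨e⟩⟩ := hX
  obtain ⟨n, hn, h0⟩ := htor Y
  refine ⟨n, hn, ?_⟩
  have h1 : n • 𝟙 ((Ind.yoneda (C := C)).obj Y) = 0 := by
    rw [← CategoryTheory.Functor.map_id, ← Functor.map_nsmul, h0, Functor.map_zero]
  rw [← cancel_epi e.hom, comp_zero, comp_nsmul_id,
    ← Category.id_comp e.hom, ← Preadditive.nsmul_comp, h1, zero_comp]

/-- The essential image of `Ind.yoneda` satisfies the standing hypotheses. -/
theorem small (hart : ∀ X : C, IsArtinianObject X)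
    (htor : ∀ X : C, ∃ n : ℕ, 0 < n ∧ n • 𝟙 X = 0) :
    Small (Ind.yoneda (C := C)).essImage where
  iso e h := ObjectProperty.prop_of_iso _ e h
  kernel {X Y} f hX hY := by
    have := additive_yoneda (C := C)
    obtain ⟨X', ⟨eX⟩⟩ := hX
    obtain ⟨Y', ⟨eY⟩⟩ := hY
    let f' : X' ⟶ Y' := Ind.yoneda.preimage (eX.hom ≫ f ≫ eY.inv)
    exact ⟨Limits.kernel f', ⟨PreservesKernel.iso Ind.yoneda f' ≪≫
      kernel.mapIso (Ind.yoneda.map f') f eX eY (by simp [f'])⟩⟩
  cokernel {X Y} f hX hY := by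
    have := additive_yoneda (C := C)
    obtain ⟨X', ⟨eX⟩⟩ := hX
    obtain ⟨Y', ⟨eY⟩⟩ := hY
    let f' : X' ⟶ Y' := Ind.yoneda.preimage (eX.hom ≫ f ≫ eY.inv)
    exact ⟨Limits.cokernel f', ⟨PreservesCokernel.iso Ind.yoneda f' ≪≫
      cokernel.mapIso (Ind.yoneda.map f') f eX eY (by simp [f'])⟩⟩
  biprod {X Y} hX hY := by
    have := additive_yoneda (C := C)
    obtain ⟨X', ⟨eX⟩⟩ := hX
    obtain ⟨Y', ⟨eY⟩⟩ := hY
    have := preservesBinaryBiproducts_of_preservesBinaryProducts (Ind.yoneda (C := C))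
    exact ⟨X' ⊞ Y', ⟨Ind.yoneda.mapBiprod X' Y' ≪≫ biprod.mapIso eX eY⟩⟩
  separating {A Z} g h := by
    refine (Ind.isSeparating_range_yoneda (C := C)) g 0 fun G hG q => ?_
    rw [h G q (by obtain ⟨i⟩ := hG; exact Functor.obj_mem_essImage _ _), comp_zero]
  torsion X hX := torsion_image (fun n => 0 < n) htor X hX
  artinian {A} S hS hE := by
    choose Y hY using hE
    have e := fun i => Classical.choice (hY i)
    have : IsArtinianObject (Y 0) := hart _
    let g : ∀ i, Y i ⟶ Y 0 := fun i =>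
      Ind.yoneda.preimage ((e i).hom ≫ Subobject.ofLE _ _ (hS (Nat.zero_le i)) ≫ (e 0).inv)
    have hg : ∀ i, Mono (g i) := fun i =>
      Ind.yoneda.mono_of_mono_map (by simp only [g, Functor.map_preimage]; infer_instance)
    have hanti : Antitone fun i => Subobject.mk (g i) := fun a b hab =>
      Subobject.mk_le_mk_of_comm
        (Ind.yoneda.preimage ((e b).hom ≫ Subobject.ofLE _ _ (hS hab) ≫ (e a).inv))
        (Ind.yoneda.map_injective (by simp [g]))
    obtain ⟨N, hN⟩ := antitone_chain_condition_of_isArtinianObject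
      (⟨fun i => OrderDual.toDual (Subobject.mk (g i)), fun a b h => hanti h⟩ :
        ℕ →o (Subobject (Y 0))ᵒᵈ)
    refine ⟨N, fun n hn => le_antisymm (hS hn) ?_⟩
    have h' : Subobject.mk (g N) = Subobject.mk (g n) := congrArg OrderDual.ofDual (hN n hn)
    refine Subobject.le_of_comm
      ((e N).inv ≫ Ind.yoneda.map (Subobject.ofMkLEMk _ _ h'.le) ≫ (e n).hom) ?_
    have h1 := congrArg (fun t => (e N).inv ≫ Ind.yoneda.map t ≫ (e 0).hom)
      (Subobject.ofMkLEMk_comp h'.le)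
    simp only [Functor.map_comp, g, Functor.map_preimage, Category.assoc, Iso.inv_hom_id_assoc,
      Iso.inv_hom_id, Category.comp_id] at h1
    have h2 := h1 =≫ (S 0).arrow
    simpa using h2

/-- Cofinite type from control of the `p`-power torsion. -/
theorem small_prime (hart : ∀ X : C, IsArtinianObject X) (p : ℕ) (hp : p.Prime)
    (htor : ∀ X : C, ∃ n : ℕ, (p ^ n) • 𝟙 X = 0) :
    Small (Ind.yoneda (C := C)).essImage :=
  small hart fun X => by
    obtain ⟨n, hn⟩ := htor X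
    exact ⟨p ^ n, pow_pos hp.pos n, hn⟩

theorem pow_torsion (p : ℕ) (htor : ∀ X : C, ∃ n : ℕ, (p ^ n) • 𝟙 X = 0)
    (X : Ind C) (hX : (Ind.yoneda (C := C)).essImage X) : ∃ k : ℕ, (p ^ k) • 𝟙 X = 0 := by
  obtain ⟨n, ⟨k, rfl⟩, h⟩ := torsion_image (fun n => ∃ k, n = p ^ k)
    (fun X => by obtain ⟨n, hn⟩ := htor X; exact ⟨p ^ n, ⟨n, rfl⟩, hn⟩) X hX
  exact ⟨k, h⟩

theorem cof (hart : ∀ X : C, IsArtinianObject X) (p : ℕ) (hp : p.Prime)
    (htor : ∀ X : C, ∃ n : ℕ, (p ^ n) • 𝟙 X = 0) {A : Ind C}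
    (hA : ∀ n : ℕ, (Ind.yoneda (C := C)).essImage (kernel ((p ^ n) • 𝟙 A))) :
    Cof (Ind.yoneda (C := C)).essImage A :=
  Extra.cof_of_prime_pow (small_prime hart p hp htor) p hp (pow_torsion p htor) hA

end Groth.Agent.Lib.IndCof.IndC
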